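import Groth.Agent.Et18.Fppf.SectionSheaf
import Groth.Agent.Et18.FLC
import Groth.Agent.SGA1Quot.GeomTransitive

/-!
# Sheaves of sections which are split by a covering: the universal section
-/

set_option autoImplicit false
set_option backward.isDefEq.respectTransparency.types false
set_option backward.isDefEq.respectTransparency false
set_option linter.all false

universe u

open CategoryTheory CategoryTheory.Limits AlgebraicGeometry Opposite
open Groth.Agent.Et18 Groth.Agent.Et18.H0Lift Groth.Agent.Et18.Fppf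

namespace Groth.Agent.EtFLC

variable {X : Scheme.{u}} {F : EtCoh.Ab X}

/-- Sections over `U` whose germs at every geometric point parametrise the stalk. -/
def IsBasis {U : Over X} {M : Type u} (ω : M → GSect F U) : Prop :=
  ∀ (Ω : Type u) [Field Ω] [IsSepClosed Ω] (η : Spec (CommRingCat.of Ω) ⟶ X) (ξ : FibrePts U.hom η)
    (e : (EtCoh.stalk η).obj F), ∃! m, HasGerm (ω m) ξ e

theorem exists_isBasis (U : X.Etale) (M : Type) [AddCommGroup M]
    (i : (EtCoh.pull U.hom).obj F ≅ EtCoh.const U.left M) :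
    ∃ ω : ULift.{u} M → GSect F ((EtFppf.a X).obj U), IsBasis ω := by
  let A : AddCommGrpCat.{u + 1} := AddCommGrpCat.of (ULift.{u + 1} M)
  refine ⟨fun m => i.inv.hom.app (op (EtCoh.top U.left)) (cstSec A (EtCoh.top U.left) ⟨m.down⟩),
    fun Ω _ _ η ξ e => ?_⟩
  let φ : M → (EtCoh.stalk ξ.1).obj ((EtCoh.pull U.hom).obj F) := fun m =>
    (EtCoh.stalk ξ.1).map i.inv (cstGerm ξ.1 A ⟨m⟩)
  have hφ : Function.Bijective φ :=
    ((ConcreteCategory.bijective_of_isIso ((EtCoh.stalk ξ.1).map i.inv)).comp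
      (cstGerm_bijective ξ.1 A)).comp Equiv.ulift.symm.bijective
  have key : ∀ m : M, gm ((EtCoh.pull U.hom).obj F) ξ.1 (EtCoh.top U.left) (H0Lift.topPt ξ.1)
      (i.inv.hom.app (op (EtCoh.top U.left)) (cstSec A (EtCoh.top U.left) ⟨m⟩)) = φ m := fun m => by
    refine Eq.trans (gm_hom i.inv ξ.1 _ _ _).symm ?_
    refine congrArg ((EtCoh.stalk ξ.1).map i.inv) ?_
    exact ConcreteCategory.congr_hom (cstSec_germ ξ.1 A (EtCoh.top U.left) (H0Lift.topPt ξ.1)) ⟨m⟩
  obtain ⟨m, hm⟩ := hφ.2 (toPull U.hom η ξ F e)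
  refine ⟨⟨m⟩, (hm.symm.trans (key m).symm), fun m' hm' => ?_⟩
  exact ULift.ext _ _ (hφ.1 (((key m'.down).symm.trans hm'.symm).trans hm.symm))

theorem pullSec_eq_res {T' T : Over X} (a : T' ⟶ T) (σ : GSect F T) :
    pullSec a.left T.hom F (Over.w a) σ = res a σ := rfl

variable {ι : Type u} (U : ι → Over X) (M : ι → Type u) [∀ i, Finite (M i)]

/-- The disjoint union of the `U i`. -/
noncomputable abbrev V : Over X := Over.mk (Sigma.desc fun i => (U i).hom)

/-- The trivial covering of `U i`. -/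
noncomputable abbrev P (i : ι) : Scheme.{u} := ∐ fun _ : M i => (U i).left

/-- The disjoint union of the trivial coverings. -/
noncomputable abbrev W : Over X :=
  Over.mk (Sigma.desc fun i => Sigma.desc (fun _ : M i => (U i).hom) : (∐ fun i => P U M i) ⟶ X)

noncomputable def inV (i : ι) : U i ⟶ V U := Over.homMk (Sigma.ι (fun i => (U i).left) i)

noncomputable def inW (i : ι) (m : M i) : U i ⟶ W U M :=
  Over.homMk (Sigma.ι (fun _ : M i => (U i).left) m ≫ Sigma.ι (fun i => P U M i) i) (by simp)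

noncomputable def proj : W U M ⟶ V U :=
  Over.homMk (Sigma.desc fun i => Sigma.desc fun _ : M i => Sigma.ι (fun i => (U i).left) i)
    (Sigma.hom_ext _ _ fun i => Sigma.hom_ext _ _ fun m => by simp)

theorem inW_proj (i : ι) (m : M i) : inW U M i m ≫ proj U M = inV U i :=
  Over.OverMorphism.ext (by simp [inW, proj, inV])

instance (i : ι) : IsOpenImmersion (inV U i).left :=
  inferInstanceAs (IsOpenImmersion (Sigma.ι (fun i => (U i).left) i))

instance (i : ι) (m : M i) : IsOpenImmersion (inW U M i m).left :=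
  inferInstanceAs (IsOpenImmersion
    (Sigma.ι (fun _ : M i => (U i).left) m ≫ Sigma.ι (fun i => P U M i) i))

theorem exists_inW (w : (W U M).left) : ∃ (i : ι) (m : M i) (a : (U i).left), (inW U M i m).left a = w := by
  obtain ⟨i, p, rfl⟩ := (sigmaOpenCover fun i => P U M i).exists_eq w
  obtain ⟨m, a, rfl⟩ := (sigmaOpenCover fun _ : M i => (U i).left).exists_eq p
  exact ⟨i, m, a, rfl⟩

theorem inV_index {i j : ι} (a : (U i).left) (b : (U j).left)
    (h : (inV U i).left a = (inV U j).left b) : i = j :=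
  (Sigma.mk.inj_iff.1 ((sigmaι_eq_iff _ _ _ _ _).1 h)).1

theorem inW_index {i : ι} {m : M i} {j : ι} {n : M j} (a : (U i).left) (b : (U j).left)
    (h : (inW U M i m).left a = (inW U M j n).left b) : (⟨i, m⟩ : Σ i, M i) = ⟨j, n⟩ := by
  obtain ⟨rfl, h2⟩ := Sigma.mk.inj_iff.1 ((sigmaι_eq_iff (fun i => P U M i) _ _ _ _).1 h)
  obtain ⟨rfl, -⟩ := Sigma.mk.inj_iff.1 ((sigmaι_eq_iff _ _ _ _ _).1 (eq_of_heq h2))
  rfl

theorem isFinite_proj : IsFinite (proj U M).left := by
  let p : ∀ i, P U M i ⟶ (U i).left := fun i => Sigma.desc fun _ : M i => 𝟙 _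
  refine (IsZariskiLocalAtTarget.iff_of_openCover (P := @IsFinite)
    (sigmaOpenCover fun i => (U i).left)).2 fun i => ?_
  have hp : IsFinite (p i) := SGA1Quot.GeomTrans.isFinite_sigmaDesc _ fun _ => inferInstance
  have sq : IsPullback (p i) (Sigma.ι (fun i => P U M i) i) (inV U i).left (proj U M).left := by
    refine IsOpenImmersion.isPullback _ _ _ _ ?_ ?_
    · refine Sigma.hom_ext _ _ fun m => ?_
      simp [p, proj, inV]
    · ext w
      constructor
      · rintro ⟨a, ha⟩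
        obtain ⟨j, n, b, rfl⟩ := exists_inW U M w
        have : (proj U M).left ((inW U M j n).left b) = (inV U j).left b := by
          rw [← Scheme.Hom.comp_apply, ← Over.comp_left, inW_proj]
        obtain rfl := inV_index U a b (ha.trans this)
        exact ⟨Sigma.ι (fun _ : M i => (U i).left) n b, rfl⟩
      · rintro ⟨q, rfl⟩
        obtain ⟨m, a, rfl⟩ := (sigmaOpenCover fun _ : M i => (U i).left).exists_eq q
        refine ⟨a, ?_⟩
        show (inV U i).left a = (proj U M).left ((inW U M i m).left a)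
        rw [← Scheme.Hom.comp_apply (inW U M i m).left, ← Over.comp_left, inW_proj]
  exact (MorphismProperty.arrow_mk_iso_iff @IsFinite
    (Arrow.isoMk sq.flip.isoPullback.symm (Iso.refl _) (by simp [Scheme.Cover.pullbackHom]; rfl))).2 hp

variable {U M} (ω : ∀ i, M i → GSect F (U i))

/-- The universal section on `W`. -/
theorem exists_univ :
    ∃ ω' : GSect F (W U M), ∀ (i : ι) (m : M i), res (inW U M i m) ω' = ω i m := by
  let K := ULift.{u + 1} (Σ i, M i)
  obtain ⟨s, hs⟩ := exists_descend_family (F := F) (W U M).hom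
    (S := fun k : K => (U k.down.1).left) (fun k => (inW U M k.down.1 k.down.2).left)
    (fi := fun k => (U k.down.1).hom) (fun k => inferInstance)
    (fun y => by
      obtain ⟨i, m, a, ha⟩ := exists_inW U M y
      exact ⟨⟨⟨i, m⟩⟩, a, ha⟩)
    (fun k => Over.w (inW U M k.down.1 k.down.2)) (fun k => ω k.down.1 k.down.2)
    (fun k l Ω _ _ η ξ₁ ξ₂ e hξ he => by
      obtain ⟨⟨i, m⟩⟩ := k
      obtain ⟨⟨j, n⟩⟩ := l
      have := congrArg (fun f : _ ⟶ (W U M).left => f default) hξ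
      simp only [Scheme.Hom.comp_apply] at this
      obtain ⟨rfl, hmn⟩ := Sigma.mk.inj_iff.1 (inW_index U M _ _ this)
      obtain rfl := eq_of_heq hmn
      obtain rfl : ξ₁ = ξ₂ := Subtype.ext ((cancel_mono (inW U M i m).left).1 hξ)
      exact he)
  exact ⟨s, fun i m => hs ⟨⟨i, m⟩⟩⟩

variable {ω} (hω : ∀ i, IsBasis (ω i)) {ω' : GSect F (W U M)}
  (hω' : ∀ (i : ι) (m : M i), res (inW U M i m) ω' = ω i m)

include hω'

theorem germ_at {T : Over X} (z : T ⟶ W U M) {Ω : Type u} [Field Ω] [IsSepClosed Ω]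
    {η : Spec (CommRingCat.of Ω) ⟶ X} (ξ : FibrePts T.hom η) {i : ι} {m : M i}
    (ξi : FibrePts (U i).hom η) (h : ξi.1 ≫ (inW U M i m).left = ξ.1 ≫ z.left)
    {e : (EtCoh.stalk η).obj F} (he : HasGerm (res z ω') ξ e) : HasGerm (ω i m) ξi e := by
  let ξW : FibrePts (W U M).hom η :=
    ⟨ξ.1 ≫ z.left, (Category.assoc _ _ _).trans ((congrArg (ξ.1 ≫ ·) (Over.w z)).trans ξ.2)⟩
  obtain ⟨e', he'⟩ := exists_hasGerm ω' ξW
  obtain rfl := he.unique (hasGerm_res z ξ ξW rfl he')
  have := hasGerm_res (inW U M i m) ξi ξW h he'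
  rwa [hω'] at this

include hω

theorem lift_unique {T : Over X} (z z' : T ⟶ W U M) (h : z ≫ proj U M = z' ≫ proj U M)
    (h' : res z ω' = res z' ω') : z = z' := by
  have key : ∀ y : T.left, ∃ k : Σ i, M i, z.left y ∈ (inW U M k.1 k.2).left.opensRange ∧
      z'.left y ∈ (inW U M k.1 k.2).left.opensRange := by
    intro y
    obtain ⟨i, m, a, ha⟩ := exists_inW U M (z.left y)
    obtain ⟨j, n, b, hb⟩ := exists_inW U M (z'.left y)
    let ξ : FibrePts T.hom (algPoint T.left y ≫ T.hom) := ⟨algPoint T.left y, rfl⟩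
    have hr : Set.range (algPoint T.left y ≫ z.left) ⊆ Set.range (inW U M i m).left := by
      rintro _ ⟨d, rfl⟩
      rw [Subsingleton.elim d default, Scheme.Hom.comp_apply, algPoint_default]
      exact ⟨a, ha⟩
    have hr' : Set.range (algPoint T.left y ≫ z'.left) ⊆ Set.range (inW U M j n).left := by
      rintro _ ⟨d, rfl⟩
      rw [Subsingleton.elim d default, Scheme.Hom.comp_apply, algPoint_default]
      exact ⟨b, hb⟩
    let l := IsOpenImmersion.lift (inW U M i m).left _ hr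
    let l' := IsOpenImmersion.lift (inW U M j n).left _ hr'
    have hl : l ≫ (inW U M i m).left = ξ.1 ≫ z.left := IsOpenImmersion.lift_fac _ _ _
    have hl' : l' ≫ (inW U M j n).left = ξ.1 ≫ z'.left := IsOpenImmersion.lift_fac _ _ _
    have e : l ≫ (inV U i).left = l' ≫ (inV U j).left := by
      rw [← inW_proj U M i m, ← inW_proj U M j n, Over.comp_left, Over.comp_left, ← Category.assoc,
        ← Category.assoc, hl, hl', Category.assoc, Category.assoc, ← Over.comp_left, ← Over.comp_left, h]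
    have e0 := congrArg (fun f : _ ⟶ (V U).left => f default) e
    simp only [Scheme.Hom.comp_apply] at e0
    obtain rfl := inV_index U _ _ e0
    have ell : l = l' := (cancel_mono (inV U i).left).1 e
    have hlη : l ≫ (U i).hom = algPoint T.left y ≫ T.hom := by
      rw [← Over.w (inW U M i m), ← Category.assoc, hl, Category.assoc, Over.w z]
    obtain ⟨g, hg⟩ := exists_hasGerm (res z ω') ξ
    have hm := germ_at hω' z ξ ⟨l, hlη⟩ hl hg
    rw [h'] at hg
    have hn := germ_at hω' z' ξ ⟨l, hlη⟩ (ell ▸ hl') hg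
    obtain ⟨m₀, -, hm₀⟩ := hω i _ _ (⟨l, hlη⟩ : FibrePts (U i).hom _) g
    obtain rfl : m = n := (hm₀ m hm).trans (hm₀ n hn).symm
    exact ⟨⟨i, m⟩, ⟨a, ha⟩, ⟨b, hb⟩⟩
  choose k hk hk' using key
  let O : T.left → T.left.Opens := fun y =>
    z.left ⁻¹ᵁ (inW U M (k y).1 (k y).2).left.opensRange ⊓
      z'.left ⁻¹ᵁ (inW U M (k y).1 (k y).2).left.opensRange
  refine Over.OverMorphism.ext ((T.left.openCoverOfIsOpenCover O
    (TopologicalSpace.Opens.ext (Set.eq_univ_iff_forall.2 fun y => by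
      simp only [TopologicalSpace.Opens.coe_iSup, Set.mem_iUnion]
      exact ⟨y, hk y, hk' y⟩))).hom_ext _ _ fun y => ?_)
  show (O y).ι ≫ z.left = (O y).ι ≫ z'.left
  have h1 : Set.range ((O y).ι ≫ z.left) ⊆ Set.range (inW U M (k y).1 (k y).2).left := by
    rintro _ ⟨d, rfl⟩; exact d.2.1
  have h2 : Set.range ((O y).ι ≫ z'.left) ⊆ Set.range (inW U M (k y).1 (k y).2).left := by
    rintro _ ⟨d, rfl⟩; exact d.2.2
  rw [← IsOpenImmersion.lift_fac _ _ h1, ← IsOpenImmersion.lift_fac _ _ h2]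
  congr 1
  rw [← cancel_mono (inV U (k y).1).left, ← inW_proj U M (k y).1 (k y).2, Over.comp_left,
    ← Category.assoc, ← Category.assoc, IsOpenImmersion.lift_fac, IsOpenImmersion.lift_fac,
    Category.assoc, Category.assoc, ← Over.comp_left, ← Over.comp_left, h]

theorem lift_local {T : Over X} (t : T ⟶ V U) (σ : GSect F T) (y : T.left) :
    ∃ (R : Over X) (r : R ⟶ T) (z : R ⟶ W U M), IsOpenImmersion r.left ∧ y ∈ Set.range r.left ∧
      z ≫ proj U M = r ≫ t ∧ res z ω' = res r σ := by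
  obtain ⟨i, a, ha⟩ := (sigmaOpenCover fun i => (U i).left).exists_eq (t.left y)
  let Ti : T.left.Opens := t.left ⁻¹ᵁ (inV U i).left.opensRange
  have hr : Set.range (Ti.ι ≫ t.left) ⊆ Set.range (inV U i).left := by
    rintro _ ⟨d, rfl⟩; exact d.2
  let S : Over X := Over.mk (Ti.ι ≫ T.hom)
  let s : S ⟶ T := Over.homMk Ti.ι
  let b : S ⟶ U i := Over.homMk (IsOpenImmersion.lift (inV U i).left _ hr) (by
    show _ ≫ (U i).hom = Ti.ι ≫ T.hom
    rw [← Over.w (inV U i), ← Category.assoc, IsOpenImmersion.lift_fac, Category.assoc, Over.w t])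
  have hb : b ≫ inV U i = s ≫ t := Over.OverMorphism.ext (IsOpenImmersion.lift_fac _ _ hr)
  let y' : S.left := ⟨y, ⟨a, ha⟩⟩
  let ξ : FibrePts S.hom (algPoint S.left y' ≫ S.hom) := ⟨algPoint S.left y', rfl⟩
  let ξU : FibrePts (U i).hom (algPoint S.left y' ≫ S.hom) :=
    ⟨ξ.1 ≫ b.left, (Category.assoc _ _ _).trans (congrArg (ξ.1 ≫ ·) (Over.w b))⟩
  obtain ⟨e, he⟩ := exists_hasGerm (res s σ) ξ
  obtain ⟨m, hm, -⟩ := hω i _ _ ξU e
  have hm' := hasGerm_res b ξ ξU rfl hm
  let D : GSect F S := res b (ω i m) - res s σ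
  have hy : y' ∉ EtShriek.sectSupp ((EtCoh.pull S.hom).obj F) (EtCoh.top S.left) D := by
    rw [show y' = fiberPt (H0Lift.topPt ξ.1) from (algPoint_default S.left y').symm]
    refine (gm_eq_zero_iff _ ξ.1 _ (H0Lift.topPt ξ.1) _).1 ((map_sub _ _ _).trans ?_)
    exact sub_eq_zero.2 (hm'.symm.trans he)
  let O : S.left.Opens := ⟨_, (isClosed_sectSupp _ (EtCoh.top S.left) D).isOpen_compl⟩
  let R : Over X := Over.mk (O.ι ≫ S.hom)
  let o : R ⟶ S := Over.homMk O.ι
  refine ⟨R, o ≫ s, o ≫ b ≫ inW U M i m, inferInstanceAs (IsOpenImmersion (O.ι ≫ Ti.ι)),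
    ⟨⟨y', hy⟩, rfl⟩, by simp only [Category.assoc, inW_proj, hb], ?_⟩
  rw [res_comp, res_comp, hω', res_comp]
  refine ext_germs fun Ω _ _ η ξR g hg => ?_
  let ξS : FibrePts S.hom η := ⟨ξR.1 ≫ O.ι, (Category.assoc _ _ _).trans ξR.2⟩
  obtain ⟨g₁, hg₁⟩ := exists_hasGerm (res b (ω i m)) ξS
  obtain ⟨g₂, hg₂⟩ := exists_hasGerm (res s σ) ξS
  obtain rfl := hg.unique (hasGerm_res o ξR ξS rfl hg₁)
  have h0 : fiberPt (H0Lift.topPt ξS.1) ∉ EtShriek.sectSupp ((EtCoh.pull S.hom).obj F) (EtCoh.top S.left) D :=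
    (ξR.1 default).2
  rw [← gm_eq_zero_iff] at h0
  have h12 := sub_eq_zero.1 ((map_sub _ _ _).symm.trans h0)
  have : g = g₂ := (bijective_toPull S.hom ξS F).1 (hg₁.trans (h12.trans hg₂.symm))
  rw [this]
  exact hasGerm_res o ξR ξS rfl hg₂

theorem lift_exists {T : Over X} (t : T ⟶ V U) (σ : GSect F T) :
    ∃ z : T ⟶ W U M, z ≫ proj U M = t ∧ res z ω' = σ := by
  choose R r z hr hy hzp hzσ using lift_local hω hω' t σ
  let 𝒰 : T.left.OpenCover :=
    Scheme.Cover.mkOfCovers T.left (fun y => (R y).left) (fun y => (r y).left)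
      (fun y => ⟨y, hy y⟩) fun y => hr y
  have hg : ∀ y y' : T.left, pullback.fst (r y).left (r y').left ≫ (z y).left =
      pullback.snd (r y).left (r y').left ≫ (z y').left := by
    intro y y'
    let Q : Over X := Over.mk (pullback.fst (r y).left (r y').left ≫ (R y).hom)
    let p₁ : Q ⟶ R y := Over.homMk (pullback.fst (r y).left (r y').left)
    let p₂ : Q ⟶ R y' := Over.homMk (pullback.snd (r y).left (r y').left) (by
      show _ = pullback.fst (r y).left (r y').left ≫ (R y).hom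
      rw [← Over.w (r y), ← Over.w (r y'), pullback.condition_assoc])
    have e : p₁ ≫ r y = p₂ ≫ r y' := Over.OverMorphism.ext pullback.condition
    refine congrArg (fun f : Q ⟶ W U M => f.left) (lift_unique hω hω' (p₁ ≫ z y) (p₂ ≫ z y') ?_ ?_)
    · rw [Category.assoc, Category.assoc, hzp, hzp, ← Category.assoc, ← Category.assoc, e]
    · rw [res_comp, res_comp, hzσ, hzσ, ← res_comp, ← res_comp, e]
  let g := 𝒰.glueMorphisms (fun y => (z y).left) hg
  have hfac : ∀ y, (r y).left ≫ g = (z y).left := fun y => 𝒰.ι_glueMorphisms _ _ y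
  let zz : T ⟶ W U M := Over.homMk g (𝒰.hom_ext _ _ fun y => by
    show (r y).left ≫ g ≫ _ = (r y).left ≫ T.hom
    rw [← Category.assoc, hfac, Over.w (z y), Over.w (r y)])
  have hzz : ∀ y, r y ≫ zz = z y := fun y => Over.OverMorphism.ext (hfac y)
  refine ⟨zz, Over.OverMorphism.ext (𝒰.hom_ext _ _ fun y => ?_), ext_germs fun Ω _ _ η ξ e he => ?_⟩
  · show (r y).left ≫ (zz ≫ proj U M).left = (r y).left ≫ t.left
    rw [← Over.comp_left, ← Over.comp_left, ← Category.assoc, hzz, hzp]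
  · obtain ⟨l, hl⟩ : ∃ l, l ≫ (r (ξ.1 default)).left = ξ.1 := by
      have := hr (ξ.1 default)
      refine ⟨IsOpenImmersion.lift (r (ξ.1 default)).left ξ.1 ?_, IsOpenImmersion.lift_fac _ _ _⟩
      rintro _ ⟨d, rfl⟩
      rw [Subsingleton.elim d default]
      exact hy _
    let ξR : FibrePts (R (ξ.1 default)).hom η := ⟨l, by
      rw [← Over.w (r (ξ.1 default)), ← Category.assoc, hl]; exact ξ.2⟩
    obtain ⟨e', he'⟩ := exists_hasGerm σ ξ
    have g1 := hasGerm_res (r (ξ.1 default)) ξR ξ hl he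
    rw [← res_comp, hzz, hzσ] at g1
    rw [g1.unique (hasGerm_res (r (ξ.1 default)) ξR ξ hl he')]
    exact he'

end Groth.Agent.EtFLC
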