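import Groth.Agent.EtFLC.SectUnit
import Groth.Agent.EtFLC.Pieces
import Groth.Agent.Et18.Descent
import Groth.Agent.Misc15.AffineSheafDescent

/-!
# Finite locally constant sheaves are represented by finite étale schemes
-/

set_option autoImplicit false
set_option backward.isDefEq.respectTransparency.types false
set_option backward.isDefEq.respectTransparency false
set_option linter.all false

universe u

open CategoryTheory CategoryTheory.Limits AlgebraicGeometry Opposite
open Groth.Agent.Et18 Groth.Agent.Et18.H0Lift Groth.Agent.Et18.Fppf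

namespace Groth.Agent.EtFLC

variable {X : Scheme.{u}} (F : EtCoh.Ab X)

theorem small_gsect (h : EtCoh.IsFiniteLocallyConstant F) (T : Over X) : Small.{u} (GSect F T) := by
  let ξ : ∀ y : T.left, FibrePts T.hom (algPoint T.left y ≫ T.hom) := fun y => ⟨algPoint T.left y, rfl⟩
  haveI : ∀ y : T.left, Small.{u} ((EtCoh.stalk (algPoint T.left y ≫ T.hom)).obj F) := fun y =>
    haveI := finite_stalk h (algPoint T.left y ≫ T.hom)
    inferInstance
  choose g hg using fun (σ : GSect F T) y => exists_hasGerm σ (ξ y)
  exact small_of_injective (f := g) fun σ σ' e => eq_of_hasGerm σ σ' fun y =>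
    ⟨_, inferInstance, inferInstance, _, ξ y, g σ y, algPoint_default _ y, hg σ y,
      congrFun e y ▸ hg σ' y⟩

section Shrink

variable [∀ T : Over X, Small.{u} (GSect F T)]

/-- The sheaf of sections in the smaller universe. -/
noncomputable def shrinkPresheaf : (Over X)ᵒᵖ ⥤ Type u where
  obj T := Shrink.{u} (GSect F T.unop)
  map a := TypeCat.ofHom fun s => equivShrink _ (res a.unop ((equivShrink _).symm s))
  map_id T := ConcreteCategory.hom_ext _ _ fun s => by
    show equivShrink _ (res (𝟙 T.unop) ((equivShrink _).symm s)) = s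
    rw [res_id, Equiv.apply_symm_apply]
  map_comp a b := ConcreteCategory.hom_ext _ _ fun s => by
    show equivShrink _ (res (b.unop ≫ a.unop) _) = equivShrink _ (res b.unop ((equivShrink _).symm
      (equivShrink _ (res a.unop _))))
    rw [Equiv.symm_apply_apply, res_comp]

theorem isSheaf_shrinkPresheaf :
    Presheaf.IsSheaf (QuotSh.J Scheme.fppfPrecoverage X) (shrinkPresheaf F) := by
  rw [isSheaf_iff_isSheaf_of_type]
  refine ((Presieve.isSheaf_iff_of_nat_equiv (P₁ := shrinkPresheaf F)
    (P₂ := shrinkPresheaf F ⋙ uliftFunctor.{u + 1}) (fun _ => Equiv.ulift.symm)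
    (fun _ _ _ _ => rfl))).2 ?_
  have h0 : Presieve.IsSheaf (EtFppf.J X) ((sectSheaf F).obj ⋙ forget AddCommGrpCat.{u + 1}) :=
    (isSheaf_iff_isSheaf_of_type _ _).1
      ((sheafCompose (EtFppf.J X) (forget AddCommGrpCat.{u + 1})).obj (sectSheaf F)).property
  refine Presieve.isSheaf_iso _ (NatIso.ofComponents
    (fun T => Equiv.toIso ((equivShrink.{u} (GSect F T.unop)).trans Equiv.ulift.{u + 1, u}.symm)) fun {T T'} a => ?_) h0
  refine ConcreteCategory.hom_ext _ _ fun s => ?_
  show ULift.up (equivShrink _ (res a.unop s)) =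
    ULift.up (equivShrink _ (res a.unop ((equivShrink _).symm (equivShrink _ s))))
  rw [Equiv.symm_apply_apply]

end Shrink

theorem exists_scheme (h : EtCoh.IsFiniteLocallyConstant F) [∀ T : Over X, Small.{u} (GSect F T)] :
    ∃ (A : Over X), IsFinite A.hom ∧ Etale A.hom ∧
      Nonempty ((shrinkPresheaf F).RepresentableBy A) := by
  classical
  obtain ⟨ι, U₀, hcov, hU⟩ := (isFiniteLocallyConstant_iff F).1 h
  choose M₀ hM₁ hM₂ hiso using hU
  let U : ι → Over X := fun i => (EtFppf.a X).obj (U₀ i)
  let M : ι → Type u := fun i => ULift.{u} (M₀ i)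
  haveI : ∀ i, Finite (M i) := fun i => inferInstanceAs (Finite (ULift (M₀ i)))
  choose ω hω using fun i => exists_isBasis (F := F) (U₀ i) (M₀ i) (hiso i).some
  obtain ⟨ω', hω'⟩ := exists_univ (U := U) (M := M) ω
  let Z : Over X := Over.mk (𝟙 X)
  let η : shrinkPresheaf F ⟶ yoneda.obj Z :=
    { app := fun T => TypeCat.ofHom fun _ => (Over.homMk T.unop.hom (Category.comp_id _) : T.unop ⟶ Z)
      naturality := fun {T T'} a => ConcreteCategory.hom_ext _ _ fun s =>
        Over.OverMorphism.ext (Over.w a.unop).symm }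
  let q : V U ⟶ Z := Over.homMk (V U).hom (Category.comp_id _)
  haveI hqe : Etale q.left :=
    IsZariskiLocalAtSource.sigmaDesc (P := @Etale) fun i => (U₀ i).prop
  haveI hqs : Surjective q.left := ⟨fun x => by
    obtain ⟨i, y, hy⟩ := hcov x
    refine ⟨(inV U i).left y, ?_⟩
    rw [← Scheme.Hom.comp_apply]
    show ((inV U i).left ≫ (V U).hom) y = x
    rw [Over.w (inV U i)]
    exact hy⟩
  haveI hw : IsFinite (proj U M).left := isFinite_proj U M
  let ρ : yoneda.obj (W U M) ⟶ shrinkPresheaf F :=
    { app := fun T => TypeCat.ofHom fun z => equivShrink _ (res z ω')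
      naturality := fun {T T'} a => ConcreteCategory.hom_ext _ _ fun z => by
        show equivShrink _ (res (a.unop ≫ z) ω') =
          equivShrink _ (res a.unop ((equivShrink _).symm (equivShrink _ (res z ω'))))
        rw [Equiv.symm_apply_apply, res_comp] }
  have sq : IsPullback ρ (yoneda.map (proj U M)) η (yoneda.map q) := by
    refine IsPullback.of_forall_isPullback_app fun T => ?_
    rw [Limits.Types.isPullback_iff]
    refine ⟨ConcreteCategory.hom_ext _ _ fun z => Over.OverMorphism.ext ?_, fun z z' hzz => ?_,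
      fun s t hst => ?_⟩
    · show T.unop.hom = (z ≫ proj U M).left ≫ (V U).hom
      rw [Over.w (z ≫ proj U M)]
    · exact lift_unique hω hω' z z' hzz.2 ((equivShrink _).injective hzz.1)
    · obtain ⟨z, hz1, hz2⟩ := lift_exists hω hω' t ((equivShrink _).symm s)
      refine ⟨z, ?_, hz1⟩
      show equivShrink _ (res z ω') = s
      rw [hz2, Equiv.apply_symm_apply]
  obtain ⟨A, a, e, ha, he⟩ := Misc15.AffineSheafDescent.exists_representableBy
    (isSheaf_shrinkPresheaf F) η q (proj U M) ρ sq
  -- the cartesian square of schemes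
  let i₀ : yoneda.obj A ≅ shrinkPresheaf F :=
    NatIso.ofComponents (fun T => e.homEquiv.toIso) fun {T T'} a => ConcreteCategory.hom_ext _ _ fun z =>
      e.homEquiv_comp a.unop z
  have hiso : ∀ z : W U M ⟶ A, ∀ hz : yoneda.map z = ρ ≫ i₀.inv,
      IsPullback z (proj U M) a q := fun z hz => by
    have e1 : i₀.hom ≫ η = yoneda.map a := by
      ext T y
      exact he T.unop y
    have : IsPullback (yoneda.map z) (yoneda.map (proj U M)) (yoneda.map a) (yoneda.map q) :=
      sq.of_iso (Iso.refl _) i₀.symm (Iso.refl _) (Iso.refl _) (by simp [hz]) (by simp)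
        (by simp [← e1]) (by simp)
    exact IsPullback.of_map yoneda (yoneda.map_injective (by simpa using this.w)) this
  obtain ⟨z₀, hz₀⟩ := yoneda.map_surjective (ρ ≫ i₀.inv)
  have sqA : IsPullback z₀.left (proj U M).left a.left q.left :=
    (hiso z₀ hz₀).map (Over.forget X)
  have hfppf : (@Surjective ⊓ @Flat ⊓ @LocallyOfFinitePresentation :
      MorphismProperty Scheme.{u}) q.left := ⟨⟨inferInstance, inferInstance⟩, inferInstance⟩
  haveI := Et18.descends_isFinite.{u}
  haveI hwe : Etale (proj U M).left :=
    IsZariskiLocalAtSource.sigmaDesc (P := @Etale) fun i =>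
      IsZariskiLocalAtSource.sigmaDesc (P := @Etale) fun _ =>
        inferInstanceAs (Etale (Sigma.ι (fun i => (U i).left) i))
  have hfin : IsFinite a.left := MorphismProperty.of_isPullback_of_descendsAlong
    (Q := @Surjective ⊓ @Flat ⊓ @LocallyOfFinitePresentation) sqA.flip hfppf hw
  have het : Etale a.left := MorphismProperty.of_isPullback_of_descendsAlong
    (Q := @Surjective ⊓ @Flat ⊓ @LocallyOfFinitePresentation) sqA.flip hfppf hwe
  have haA : a.left = A.hom := (Category.comp_id _).symm.trans (Over.w a)
  exact ⟨A, by rw [← haA]; exact hfin, by rw [← haA]; exact het, ⟨e⟩⟩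

theorem exists_representing (h : EtCoh.IsFiniteLocallyConstant F) :
    ∃ (U : X.Etale) (_ : IsFinite U.hom),
      Nonempty (F.obj ⋙ forget AddCommGrpCat.{u + 1} ≅ yoneda.obj U ⋙ uliftFunctor.{u + 1}) := by
  haveI := small_gsect F h
  obtain ⟨A, hfin, hetA, ⟨e⟩⟩ := exists_scheme F h
  haveI := hetA
  refine ⟨Scheme.Etale.mk A.hom, hfin, ⟨NatIso.ofComponents (fun T => Equiv.toIso
    ((Equiv.ofBijective _ (bijective_unitFun F T.unop)).trans
      ((equivShrink _).trans (e.homEquiv.symm.trans
        ((Equiv.trans
          { toFun := fun z => (MorphismProperty.Over.homMk z.left (Over.w z) :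
              T.unop ⟶ Scheme.Etale.mk A.hom)
            invFun := fun g => (Over.homMk g.left (Over.w g.hom) : (EtFppf.a X).obj T.unop ⟶ A)
            left_inv := fun z => rfl
            right_inv := fun g => rfl }
          Equiv.ulift.{u + 1}.symm)))))) fun {T T'} g => ConcreteCategory.hom_ext _ _ fun s => ?_⟩⟩
  refine ULift.ext _ _ (MorphismProperty.Over.Hom.ext ?_)
  show (e.homEquiv.symm (equivShrink _ (unitFun F T'.unop (F.obj.map g s)))).left =
    g.unop.left ≫ (e.homEquiv.symm (equivShrink _ (unitFun F T.unop s))).left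
  rw [show F.obj.map g s = F.obj.map g.unop.op s from rfl, unitFun_map]
  have key : ((EtFppf.a X).map g.unop) ≫ e.homEquiv.symm (equivShrink _ (unitFun F T.unop s)) =
      e.homEquiv.symm (equivShrink _ (res ((EtFppf.a X).map g.unop) (unitFun F T.unop s))) := by
    apply e.homEquiv.injective
    rw [e.homEquiv_comp, Equiv.apply_symm_apply, Equiv.apply_symm_apply]
    show equivShrink _ (res ((EtFppf.a X).map g.unop) ((equivShrink _).symm (equivShrink _ _))) = _
    rw [Equiv.symm_apply_apply]
  exact (congrArg (fun k => k.left) key).symm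

end Groth.Agent.EtFLC
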