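import Groth.Agent.EtFLC.NonzeroLocus
import Mathlib.FieldTheory.Finiteness

/-!
# Finite locally constant `ℓ`-torsion sheaves are successive extensions of `Z/ℓ` after a prime-to-`ℓ` cover
-/

set_option autoImplicit false
set_option backward.isDefEq.respectTransparency.types false
set_option backward.isDefEq.respectTransparency false
set_option linter.all false

universe u

open CategoryTheory CategoryTheory.Limits AlgebraicGeometry Opposite
open scoped ZeroObject
open Groth.Agent.Et18 Groth.Agent.Et18.H0Lift Groth.Agent.Et18.Fppf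

namespace Groth.Agent.EtFLC

variable {ℓ : ℕ}

/-- Successive extensions of the constant sheaf `Z/ℓ`. -/
inductive Filt (ℓ : ℕ) {T : Scheme.{u}} : EtCoh.Ab T → Prop
  | zero {F : EtCoh.Ab T} : IsZero F → Filt ℓ F
  | step {F' F : EtCoh.Ab T} (i : F' ⟶ F) [Mono i] :
      Filt ℓ F' → Nonempty (cokernel i ≅ EtCoh.const T (ZMod ℓ)) → Filt ℓ F

theorem Filt.of_iso {T : Scheme.{u}} {F G : EtCoh.Ab T} (h : Filt ℓ F) (e : F ≅ G) : Filt ℓ G := by
  cases h with
  | zero hz => exact .zero (hz.of_iso e.symm)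
  | @step F' _ i _ h hc =>
    exact .step (i ≫ e.hom) h ⟨cokernelCompIsIso i e.hom ≪≫ hc.some⟩

theorem shortExact_cokernel {A : Type*} [Category A] [Abelian A] {X Y : A} (f : X ⟶ Y) [Mono f] :
    (ShortComplex.mk f (cokernel.π f) (cokernel.condition f)).ShortExact :=
  ShortComplex.ShortExact.mk' (ShortComplex.exact_of_g_is_cokernel _ (cokernelIsCokernel f))
    inferInstance inferInstance

/-- An extension of a filtered sheaf by `Z/ℓ` is filtered. -/
theorem Filt.extend {T : Scheme.{u}} {Q : EtCoh.Ab T} (hQ : Filt ℓ Q) :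
    ∀ (S : ShortComplex (EtCoh.Ab T)), S.ShortExact → (S.X₁ ≅ EtCoh.const T (ZMod ℓ)) →
      (S.X₃ ≅ Q) → Filt ℓ S.X₂ := by
  induction hQ with
  | @zero Q hz =>
    intro S hS e₁ e₃
    haveI := hS.mono_f
    have hg : S.g = 0 := (hz.of_iso e₃).eq_of_tgt _ _
    haveI : Epi S.f := hS.exact.epi_f hg
    haveI : IsIso S.f := isIso_of_mono_of_epi S.f
    exact .step (0 : (0 : EtCoh.Ab T) ⟶ S.X₂) (.zero (isZero_zero _))
      ⟨cokernelZeroIsoTarget ≪≫ (asIso S.f).symm ≪≫ e₁⟩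
  | @step Q' Q i _ hQ' hc ih =>
    intro S hS e₁ e₃
    haveI := hS.mono_f
    haveI := hS.epi_g
    let g : S.X₂ ⟶ Q := S.g ≫ e₃.hom
    let P := pullback g i
    let f' : S.X₁ ⟶ P := pullback.lift S.f 0 (by simp [g])
    haveI : Mono f' := mono_of_mono_fac (pullback.lift_fst _ _ _)
    haveI : Epi g := epi_comp _ _
    haveI : Epi (pullback.snd g i) := Abelian.epi_pullback_of_epi_f g i
    have hP : Filt ℓ P := by
      refine ih (ShortComplex.mk f' (pullback.snd g i) (pullback.lift_snd _ _ _))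
        (ShortComplex.ShortExact.mk' ?_ inferInstance inferInstance) e₁ (Iso.refl _)
      refine ShortComplex.exact_of_f_is_kernel _ (KernelFork.IsLimit.ofι' _ _ fun {W} k hk => ?_)
      have hk0 : (k ≫ pullback.fst g i) ≫ S.g = 0 := by
        refine (cancel_mono e₃.hom).1 (Eq.trans ?_ zero_comp.symm)
        have hk1 : k ≫ pullback.snd g i = 0 := hk
        rw [Category.assoc, Category.assoc]
        refine (congrArg (k ≫ ·) (pullback.condition (f := g) (g := i))).trans ?_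
        rw [← Category.assoc, hk1, zero_comp]
      exact ⟨hS.exact.lift (k ≫ pullback.fst g i) hk0, pullback.hom_ext
        (by rw [Category.assoc, pullback.lift_fst, hS.exact.lift_f])
        (by rw [Category.assoc, pullback.lift_snd, comp_zero, hk])⟩
    let π := g ≫ cokernel.π i
    haveI : Epi π := epi_comp _ _
    have hw : pullback.fst g i ≫ π = 0 := by simp [π, pullback.condition_assoc]
    have hex : (ShortComplex.mk (pullback.fst g i) π hw).Exact := by
      refine ShortComplex.exact_of_f_is_kernel _ (KernelFork.IsLimit.ofι' _ _ fun {W} k hk => ?_)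
      have hk' : (k ≫ g) ≫ cokernel.π i = 0 := by simpa [π] using hk
      exact ⟨pullback.lift k ((shortExact_cokernel i).exact.lift (k ≫ g) hk')
        ((shortExact_cokernel i).exact.lift_f (k ≫ g) hk').symm, pullback.lift_fst _ _ _⟩
    exact .step (pullback.fst g i) hP
      ⟨(colimit.isColimit _).coconePointUniqueUpToIso hex.gIsCokernel ≪≫ hc.some⟩

theorem pull_shortExact {X Y : Scheme.{u}} (f : X ⟶ Y) {S : ShortComplex (EtCoh.Ab Y)}
    (hS : S.ShortExact) : (S.map (EtCoh.pull f)).ShortExact :=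
  hS.map_of_exact (EtCoh.pull f)

/-- A chain presenting a filtered sheaf. -/
theorem Filt.chain {T : Scheme.{u}} {F : EtCoh.Ab T} (h : Filt ℓ F) :
    ∃ (n : ℕ) (G : ℕ → EtCoh.Ab T) (φ : ∀ i, G i ⟶ G (i + 1)),
      IsZero (G 0) ∧ Nonempty (G n ≅ F) ∧
      ∀ i, i < n → Mono (φ i) ∧ Nonempty (cokernel (φ i) ≅ EtCoh.const T (ZMod ℓ)) := by
  induction h with
  | @zero F hz => exact ⟨0, fun _ => F, fun _ => 0, hz, ⟨Iso.refl _⟩, fun i hi => absurd hi (by omega)⟩
  | @step F' F j _ _ hc ih =>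
    classical
    obtain ⟨n, G, φ, h0, ⟨e⟩, h⟩ := ih
    let G' : ℕ → EtCoh.Ab T := fun i => if i ≤ n then G i else F
    have e₁ : ∀ i, i ≤ n → G' i = G i := fun i hi => if_pos hi
    have e₂ : ∀ i, ¬ i ≤ n → G' i = F := fun i hi => if_neg hi
    let φ' : ∀ i, G' i ⟶ G' (i + 1) := fun i =>
      if h1 : i + 1 ≤ n then eqToHom (e₁ i (by omega)) ≫ φ i ≫ eqToHom (e₁ (i + 1) h1).symm
      else if h2 : i = n then
        eqToHom ((e₁ i (by omega)).trans (congrArg G h2)) ≫ e.hom ≫ j ≫ eqToHom (e₂ (i + 1) h1).symm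
      else 0
    refine ⟨n + 1, G', φ', h0.of_iso (eqToIso (e₁ 0 (by omega))),
      ⟨eqToIso (e₂ (n + 1) (by omega))⟩, fun i hi => ?_⟩
    by_cases h1 : i + 1 ≤ n
    · obtain ⟨hm, ⟨c⟩⟩ := h i (by omega)
      simp only [φ', dif_pos h1]
      exact ⟨inferInstance, ⟨cokernelEpiComp _ _ ≪≫ cokernelCompIsIso _ _ ≪≫ c⟩⟩
    · have h2 : i = n := by omega
      simp only [φ', dif_neg h1, dif_pos h2]
      exact ⟨inferInstance, ⟨cokernelEpiComp _ _ ≪≫ cokernelEpiComp _ _ ≪≫ cokernelCompIsIso _ _ ≪≫ hc.some⟩⟩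

section Line

variable {X : Scheme.{u}} [Fact ℓ.Prime] (F : EtCoh.Ab X)
  (hkill : ∀ (Ω : Type u) [Field Ω] [IsSepClosed Ω] (η : Spec (CommRingCat.of Ω) ⟶ X)
    (e : (EtCoh.stalk η).obj F), ℓ • e = 0)
  {T : Scheme.{u}} {f : T ⟶ X} (s : GSect F (Over.mk f))
  (hne : ∀ (Ω : Type u) [Field Ω] [IsSepClosed Ω] (η : Spec (CommRingCat.of Ω) ⟶ X)
    (t : FibrePts f η) (e : (EtCoh.stalk η).obj F), HasGerm (T := T) (f := f) s t e → e ≠ 0)

include hkill hne

theorem exists_line :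
    ∃ ι : EtCoh.const T (ZMod ℓ) ⟶ (EtCoh.pull f).obj F, Mono ι := by
  let s' : EtCoh.sect ((EtCoh.pull f).obj F) (EtCoh.top T) := s
  have hgerm : ∀ (Ω : Type u) [Field Ω] [IsSepClosed Ω] (ξ : Spec (CommRingCat.of Ω) ⟶ T),
      gm ((EtCoh.pull f).obj F) ξ (EtCoh.top T) (H0Lift.topPt ξ) s' ≠ 0 ∧
        ℓ • gm ((EtCoh.pull f).obj F) ξ (EtCoh.top T) (H0Lift.topPt ξ) s' = 0 := by
    intro Ω _ _ ξ
    let t : FibrePts f (ξ ≫ f) := ⟨ξ, rfl⟩
    obtain ⟨e, he⟩ := exists_hasGerm (f := f) s' t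
    have he' : toPull f (ξ ≫ f) t F e = gm ((EtCoh.pull f).obj F) ξ _ (H0Lift.topPt ξ) s' := he
    refine ⟨fun h0 => hne Ω _ t e he ((bijective_toPull f t F).1 ?_), ?_⟩
    · exact he'.trans (h0.trans (map_zero (toPull f (ξ ≫ f) t F).hom).symm)
    · rw [← he', ← map_nsmul, hkill Ω _ e, map_zero]
  have hls : ℓ • s' = 0 := by
    refine eq_of_hasGerm (ℓ • s') 0 fun y => ?_
    let t : FibrePts f (algPoint T y ≫ f) := ⟨algPoint T y, rfl⟩
    refine ⟨_, inferInstance, inferInstance, _, t, 0, algPoint_default T y, ?_, HasGerm.zero t⟩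
    refine (map_zero (toPull f _ t F).hom).trans ?_
    refine ((hgerm _ (algPoint T y)).2.symm).trans ?_
    exact (map_nsmul ((Scheme.pointSmallEtale (algPoint T y)).toPresheafFiber (EtCoh.top T)
      (H0Lift.topPt (algPoint T y)) ((EtCoh.pull f).obj F).obj).hom ℓ s').symm
  let μ₀ : ZMod ℓ →+ EtCoh.sect ((EtCoh.pull f).obj F) (EtCoh.top T) :=
    ZMod.lift ℓ ⟨zmultiplesHom _ s', by rw [zmultiplesHom_apply, natCast_zsmul]; exact hls⟩
  let A : AddCommGrpCat.{u + 1} := AddCommGrpCat.of (ULift.{u + 1} (ZMod ℓ))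
  let μ : (Functor.const T.Etaleᵒᵖ).obj A ⟶ ((EtCoh.pull f).obj F).obj :=
    { app := fun W => AddCommGrpCat.ofHom (μ₀.comp AddEquiv.ulift.toAddMonoidHom) ≫
        ((EtCoh.pull f).obj F).obj.map ((EtCore.topIsTerminal T).from W.unop).op
      naturality := fun {W W'} g => by
        rw [Category.assoc, ← Functor.map_comp]
        refine (Category.id_comp _).trans ?_
        congr 2
        exact Quiver.Hom.unop_inj ((EtCore.topIsTerminal T).hom_ext _ _) }
  let ι : EtCoh.const T (ZMod ℓ) ⟶ (EtCoh.pull f).obj F :=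
    ⟨sheafifyLift T.smallEtaleTopology μ ((EtCoh.pull f).obj F).property⟩
  have hι : ∀ a : ULift.{u + 1} (ZMod ℓ),
      ι.hom.app (op (EtCoh.top T)) (cstSec A (EtCoh.top T) a) = μ₀ a.down := by
    intro a
    have := ConcreteCategory.congr_hom
      (congrArg (fun k : (Functor.const T.Etaleᵒᵖ).obj A ⟶ ((EtCoh.pull f).obj F).obj => k.app (op (EtCoh.top T)))
        (toSheafify_sheafifyLift T.smallEtaleTopology μ ((EtCoh.pull f).obj F).property)) a
    refine this.trans ?_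
    show ((EtCoh.pull f).obj F).obj.map ((EtCore.topIsTerminal T).from (EtCoh.top T)).op (μ₀ a.down) = _
    rw [(EtCore.topIsTerminal T).hom_ext ((EtCore.topIsTerminal T).from (EtCoh.top T)) (𝟙 _), op_id,
      CategoryTheory.Functor.map_id]
    rfl
  refine ⟨ι, mono_of_stalks ι fun y => ?_⟩
  rw [injective_iff_map_eq_zero]
  intro a ha
  obtain ⟨⟨k⟩, rfl⟩ := (cstGerm_bijective (sepPoint T y) A).2 a
  have hmem : gm (EtCoh.const T (ZMod ℓ)) (sepPoint T y) (EtCoh.top T) (H0Lift.topPt (sepPoint T y))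
      (cstSec A (EtCoh.top T) ⟨k⟩) = cstGerm (sepPoint T y) A ⟨k⟩ :=
    ConcreteCategory.congr_hom
      (cstSec_germ (sepPoint T y) A (EtCoh.top T) (H0Lift.topPt (sepPoint T y))) ⟨k⟩
  rw [← hmem] at ha ⊢
  have hk : gm ((EtCoh.pull f).obj F) (sepPoint T y) (EtCoh.top T) (H0Lift.topPt (sepPoint T y))
      (μ₀ k) = 0 :=
    (congrArg _ (hι ⟨k⟩)).symm.trans ((gm_hom ι (sepPoint T y) _ _ _).symm.trans ha)
  obtain ⟨z, rfl⟩ := ZMod.intCast_surjective k
  rw [show μ₀ (z : ZMod ℓ) = z • s' from ZMod.lift_coe _ _ z] at hk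
  have hk' := (map_zsmul ((Scheme.pointSmallEtale (sepPoint T y)).toPresheafFiber (EtCoh.top T)
    (H0Lift.topPt (sepPoint T y)) ((EtCoh.pull f).obj F).obj).hom z s').symm.trans hk
  obtain ⟨hne0, hl0⟩ := hgerm _ (sepPoint T y)
  have hord : addOrderOf (gm ((EtCoh.pull f).obj F) (sepPoint T y) (EtCoh.top T)
      (H0Lift.topPt (sepPoint T y)) s') = ℓ := addOrderOf_eq_prime hl0 hne0
  have hdvd := (addOrderOf_dvd_iff_zsmul_eq_zero.2 hk')
  rw [hord] at hdvd
  rw [show (⟨(z : ZMod ℓ)⟩ : ULift.{u + 1} (ZMod ℓ)) = 0 from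
    ULift.ext _ _ ((ZMod.intCast_zmod_eq_zero_iff_dvd z ℓ).2 hdvd), map_zero]
  exact map_zero _

end Line

theorem exists_filt [hℓ : Fact ℓ.Prime] : ∀ (n : ℕ) (X : Scheme.{u}) (F : EtCoh.Ab X),
    EtCoh.IsFiniteLocallyConstant F →
    (∀ (Ω : Type u) [Field Ω] [IsSepClosed Ω] (η : Spec (CommRingCat.of Ω) ⟶ X),
      (∀ e : (EtCoh.stalk η).obj F, ℓ • e = 0) ∧ Nat.card ((EtCoh.stalk η).obj F) = ℓ ^ n) →
    ∃ (T : Scheme.{u}) (f : T ⟶ X) (_ : IsFinite f) (_ : Etale f) (d : ℕ), ℓ.Coprime d ∧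
      (∀ (Ω : Type u) [Field Ω] [IsSepClosed Ω] (η : Spec (CommRingCat.of Ω) ⟶ X),
        Nat.card (FibrePts f η) = d) ∧ Filt ℓ ((EtCoh.pull f).obj F) := by
  intro n
  induction n with
  | zero =>
    intro X F _ h
    refine ⟨X, 𝟙 X, inferInstance, inferInstance, 1, Nat.coprime_one_right ℓ, fun Ω _ _ η => ?_,
      .zero ?_⟩
    · refine Nat.card_eq_one_iff_unique.2 ⟨⟨fun a b => Subtype.ext ?_⟩, ⟨⟨η, Category.comp_id η⟩⟩⟩
      exact (Category.comp_id _).symm.trans ((a.2.trans b.2.symm).trans (Category.comp_id _))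
    · refine Functor.map_isZero (EtCoh.pull (𝟙 X)) (isZero_of_stalks fun x => ?_)
      obtain ⟨-, hc⟩ := h _ (sepPoint X x)
      rw [pow_zero, Nat.card_eq_one_iff_unique] at hc
      haveI := hc.1
      exact AddCommGrpCat.isZero_of_subsingleton _
  | succ n ih =>
    intro X F hF h
    obtain ⟨T₁, f₁, hf₁, he₁, s, hne, hcard⟩ := exists_nonzero_locus F hF
    obtain ⟨ι, hι⟩ := exists_line F (fun Ω _ _ η => (h Ω η).1) s hne
    have hS := shortExact_cokernel ι
    have hQ : EtCoh.IsFiniteLocallyConstant (cokernel ι) :=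
      (isFLC_kernel_cokernel ι (isFLC_cst _) (isFLC_pull hF f₁)).2
    have hQs : ∀ (Ω : Type u) [Field Ω] [IsSepClosed Ω] (η : Spec (CommRingCat.of Ω) ⟶ T₁),
        (∀ e : (EtCoh.stalk η).obj (cokernel ι), ℓ • e = 0) ∧
          Nat.card ((EtCoh.stalk η).obj (cokernel ι)) = ℓ ^ n := by
      intro Ω _ _ η
      obtain ⟨hkill, hc⟩ := h Ω (η ≫ f₁)
      let eF : (EtCoh.stalk η).obj ((EtCoh.pull f₁).obj F) ≃+ (EtCoh.stalk (η ≫ f₁)).obj F :=
        ((stalkPullIso f₁ η).app F).addCommGroupIsoToAddEquiv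
      have hs := hS.map_of_exact (EtCoh.stalk η)
      haveI := hs.epi_g
      haveI := hs.mono_f
      let φ := ((EtCoh.stalk η).map ι).hom
      let π := ((EtCoh.stalk η).map (cokernel.π ι)).hom
      have hπ : Function.Surjective π := (AddCommGrpCat.epi_iff_surjective _).1 hs.epi_g
      have hφ : Function.Injective φ := (AddCommGrpCat.mono_iff_injective _).1 hs.mono_f
      have hker : φ.range = π.ker := (ShortComplex.ab_exact_iff_range_eq_ker.1 hs.exact)
      refine ⟨fun e => ?_, ?_⟩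
      · obtain ⟨e, rfl⟩ := hπ e
        rw [← map_nsmul, show ℓ • e = 0 from eF.injective (by rw [map_nsmul, map_zero]; exact hkill _),
          map_zero]
      · have h1 := AddSubgroup.card_eq_card_quotient_mul_card_addSubgroup π.ker
        rw [Nat.card_congr (QuotientAddGroup.quotientKerEquivOfSurjective π hπ).toEquiv,
          Nat.card_congr eF.toEquiv] at h1
        rw [← hker, ← Nat.card_congr (AddMonoidHom.ofInjective hφ).toEquiv,
          ← Nat.card_congr (Equiv.ofBijective _ (cstGerm_bijective η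
            (AddCommGrpCat.of (ULift.{u + 1} (ZMod ℓ))))), Nat.card_congr Equiv.ulift,
          Nat.card_zmod] at h1
        rw [pow_succ] at hc
        exact Nat.eq_of_mul_eq_mul_right hℓ.out.pos (h1.symm.trans hc)
    obtain ⟨T, g, hg, heg, d, hd, hgc, hfilt⟩ := ih T₁ (cokernel ι) hQ hQs
    refine ⟨T, g ≫ f₁, inferInstance, inferInstance, (ℓ ^ (n + 1) - 1) * d, ?_, fun Ω _ _ η => ?_, ?_⟩
    · refine Nat.Coprime.mul_right ((Nat.Prime.coprime_iff_not_dvd hℓ.out).2 fun hdvd => ?_) hd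
      have h1 : ℓ ∣ ℓ ^ (n + 1) := dvd_pow_self _ (by omega)
      have h2 := Nat.dvd_sub h1 hdvd
      rw [Nat.sub_sub_self (Nat.one_le_pow _ _ hℓ.out.pos)] at h2
      exact hℓ.out.one_lt.ne' (Nat.dvd_one.1 h2)
    · classical
      have hb : Nat.card (FibrePts f₁ η) = ℓ ^ (n + 1) - 1 := by
        haveI := finite_stalk hF η
        rw [hcard Ω η, ← (h Ω η).2]
        letI := Fintype.ofFinite ((EtCoh.stalk η).obj F)
        rw [Nat.card_eq_fintype_card, Nat.card_eq_fintype_card]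
        exact Set.card_ne_eq 0
      let E : FibrePts (g ≫ f₁) η ≃ Σ t : FibrePts f₁ η, FibrePts g t.1 :=
        { toFun := fun t => ⟨⟨t.1 ≫ g, (Category.assoc _ _ _).trans t.2⟩, ⟨t.1, rfl⟩⟩
          invFun := fun p => ⟨p.2.1, by rw [← Category.assoc, p.2.2]; exact p.1.2⟩
          left_inv := fun t => rfl
          right_inv := by
            rintro ⟨⟨a, ha⟩, ⟨b, (rfl : b ≫ g = a)⟩⟩
            rfl }
      have hd0 : d ≠ 0 := fun hd0 => by
        rw [hd0, Nat.coprime_zero_right] at hd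
        exact hℓ.out.one_lt.ne' hd
      haveI : ∀ t : FibrePts f₁ η, Finite (FibrePts g t.1) := fun t =>
        Nat.finite_of_card_ne_zero (by rw [hgc Ω t.1]; exact hd0)
      rw [Nat.card_congr E,
        Nat.card_congr ((Equiv.sigmaCongrRight fun t : FibrePts f₁ η =>
          (Finite.equivFinOfCardEq (hgc Ω t.1) : FibrePts g t.1 ≃ Fin d)).trans
          (Equiv.sigmaEquivProd (FibrePts f₁ η) (Fin d))), Nat.card_prod, hb, Nat.card_fin]
    · exact (Filt.extend hfilt _ (pull_shortExact g hS) (EtCore.pullConst g (ZMod ℓ))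
        (Iso.refl _)).of_iso ((EtCore.pullComp g f₁).app F).symm

/-- The filtration theorem on a connected scheme. -/
theorem exists_filtration [hℓ : Fact ℓ.Prime] (S : Scheme.{u}) [ConnectedSpace S] (F : EtCoh.Ab S)
    (hF : EtCoh.IsFiniteLocallyConstant F) (hk : EtCoh.KilledBy ℓ F) :
    ∃ (T : Scheme.{u}) (f : T ⟶ S) (_ : IsFinite f) (_ : Etale f) (d : ℕ), ℓ.Coprime d ∧
      (∀ (Ω : Type u) [Field Ω] [IsSepClosed Ω] (η : Spec (CommRingCat.of Ω) ⟶ S),
        Nat.card (FibrePts f η) = d) ∧ Filt ℓ ((EtCoh.pull f).obj F) := by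
  obtain ⟨A, hA, hloc⟩ := exists_single_group hF
  have hkill : ∀ (Ω : Type u) [Field Ω] [IsSepClosed Ω] (η : Spec (CommRingCat.of Ω) ⟶ S)
      (e : (EtCoh.stalk η).obj F), ℓ • e = 0 := by
    intro Ω _ _ η e
    obtain ⟨V, v, t, rfl⟩ :=
      (Scheme.pointSmallEtale η).toPresheafFiber_jointly_surjective (P := F.obj) e
    refine (map_nsmul ((Scheme.pointSmallEtale η).toPresheafFiber V v F.obj).hom ℓ t).symm.trans ?_
    exact (congrArg _ (hk V t)).trans (map_zero _)
  have hiso : ∀ (Ω : Type u) [Field Ω] [IsSepClosed Ω] (η : Spec (CommRingCat.of Ω) ⟶ S),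
      Nonempty ((EtCoh.stalk η).obj F ≅ A) := fun Ω _ _ η => by
    obtain ⟨U, y, hy, hU⟩ := hloc (η default)
    exact nonempty_stalk_iso' hU η y hy
  obtain ⟨x₀⟩ := (inferInstance : Nonempty S)
  obtain ⟨eA⟩ := hiso _ (sepPoint S x₀)
  have hkA : ∀ a : A, ℓ • a = 0 := fun a => by
    let e := eA.addCommGroupIsoToAddEquiv
    rw [← e.apply_symm_apply a, ← map_nsmul, hkill, map_zero]
  letI : Module (ZMod ℓ) A := AddCommGroup.zmodModule hkA
  haveI : Module.Finite (ZMod ℓ) A := Module.Finite.of_finite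
  exact exists_filt (Module.finrank (ZMod ℓ) A) S F hF fun Ω _ _ η => ⟨hkill Ω η, by
    obtain ⟨e⟩ := hiso Ω η
    rw [Nat.card_congr e.addCommGroupIsoToAddEquiv.toEquiv,
      Module.natCard_eq_pow_finrank (K := ZMod ℓ), Nat.card_zmod]⟩

end Groth.Agent.EtFLC
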