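import Groth.Agent.EtFLC.Represent

/-!
# The scheme of nowhere vanishing sections of a finite locally constant sheaf
-/

set_option autoImplicit false
set_option backward.isDefEq.respectTransparency.types false
set_option backward.isDefEq.respectTransparency false
set_option linter.all false

universe u

open CategoryTheory CategoryTheory.Limits AlgebraicGeometry Opposite
open Groth.Agent.Et18 Groth.Agent.Et18.H0Lift Groth.Agent.Et18.Fppf

namespace Groth.Agent.EtFLC

variable {X : Scheme.{u}} (F : EtCoh.Ab X)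

theorem res_zero {T' T : Over X} (a : T' ⟶ T) : res a (0 : GSect F T) = 0 :=
  map_zero (AddMonoidHom.mk' (res a) (res_add a))

/-- Sections over a geometric point are determined by their germ. -/
theorem ext_point {Ω : Type u} [Field Ω] [IsSepClosed Ω] {η : Spec (CommRingCat.of Ω) ⟶ X}
    {σ σ' : GSect F (Over.mk η)} (ξ : FibrePts (Over.mk η).hom η) {e : (EtCoh.stalk η).obj F}
    (h : HasGerm σ ξ e) (h' : HasGerm σ' ξ e) : σ = σ' :=
  eq_of_hasGerm σ σ' fun y => ⟨Ω, inferInstance, inferInstance, η, ξ, e,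
    @Subsingleton.elim _ (inferInstanceAs (Subsingleton ↥(Spec (CommRingCat.of Ω)))) _ _, h, h'⟩

theorem exists_point_section {Ω : Type u} [Field Ω] [IsSepClosed Ω]
    (η : Spec (CommRingCat.of Ω) ⟶ X) (e : (EtCoh.stalk η).obj F) :
    ∃ σ : GSect F (Over.mk η), HasGerm σ (⟨𝟙 _, Category.id_comp _⟩ : FibrePts (Over.mk η).hom η) e := by
  obtain ⟨V, v, t, rfl⟩ :=
    (Scheme.pointSmallEtale η).toPresheafFiber_jointly_surjective (P := F.obj) e
  let ξ : FibrePts (Over.mk η).hom η := ⟨𝟙 _, Category.id_comp _⟩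
  refine ⟨pullAt F V v.left (Over.w v) t, ?_⟩
  refine Eq.mpr (congrArg (HasGerm _ _) ?_) (hasGerm_pullAt V v.left (Over.w v) t ξ)
  exact congrArg (fun w => gm F η V w t) (Over.OverMorphism.ext (Category.id_comp _).symm)

/-- The scheme of nonzero germs, with its tautological section. -/
theorem exists_nonzero_locus (h : EtCoh.IsFiniteLocallyConstant F) :
    ∃ (T : Scheme.{u}) (f : T ⟶ X) (_ : IsFinite f) (_ : Etale f) (s : GSect F (Over.mk f)),
      (∀ (Ω : Type u) [Field Ω] [IsSepClosed Ω] (η : Spec (CommRingCat.of Ω) ⟶ X)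
        (t : FibrePts f η) (e : (EtCoh.stalk η).obj F),
          HasGerm (T := T) (f := f) s t e → e ≠ 0) ∧
      ∀ (Ω : Type u) [Field Ω] [IsSepClosed Ω] (η : Spec (CommRingCat.of Ω) ⟶ X),
        Nat.card (FibrePts f η) = Nat.card {e : (EtCoh.stalk η).obj F // e ≠ 0} := by
  classical
  haveI := small_gsect F h
  obtain ⟨A, hfin, het, ⟨e⟩⟩ := exists_scheme F h
  haveI := hfin
  haveI := het
  let σA : GSect F A := (equivShrink _).symm (e.homEquiv (𝟙 A))
  have hσ : ∀ {R : Over X} (z : R ⟶ A),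
      (equivShrink _).symm (e.homEquiv z) = res z σA := fun {R} z => by
    rw [show e.homEquiv z = (shrinkPresheaf F).map z.op (e.homEquiv (𝟙 A)) from by
      rw [← e.homEquiv_comp, Category.comp_id]]
    exact (equivShrink _).symm_apply_apply _
  have hres_inj : ∀ {R : Over X} (z z' : R ⟶ A), res z σA = res z' σA → z = z' :=
    fun {R} z z' hz => e.homEquiv.injective ((equivShrink _).symm.injective
      ((hσ z).trans (hz.trans (hσ z').symm)))
  let z₀ : Over.mk (𝟙 X) ⟶ A := e.homEquiv.symm (equivShrink _ (0 : GSect F (Over.mk (𝟙 X))))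
  have hz₀ : res z₀ σA = 0 := by rw [← hσ, Equiv.apply_symm_apply, Equiv.symm_apply_apply]
  have hw₀ : z₀.left ≫ A.hom = 𝟙 X := Over.w z₀
  haveI : Etale (z₀.left ≫ A.hom) := by rw [hw₀]; exact (inferInstance : Etale (𝟙 X))
  haveI : Etale z₀.left := Etale.of_comp z₀.left A.hom
  haveI : IsClosedImmersion (z₀.left ≫ A.hom) := by
    rw [hw₀]; exact (inferInstance : IsClosedImmersion (𝟙 X))
  haveI : IsClosedImmersion z₀.left := IsClosedImmersion.of_comp z₀.left A.hom
  let O : A.left.Opens := ⟨(Set.range z₀.left)ᶜ, z₀.left.isClosedEmbedding.isClosed_range.isOpen_compl⟩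
  haveI : IsClosedImmersion O.ι := .of_isPreimmersion _ (by
    rw [Scheme.Opens.range_ι]
    exact z₀.left.isOpenMap.isOpen_range.isClosed_compl)
  let j : Over.mk (O.ι ≫ A.hom) ⟶ A := Over.homMk O.ι
  -- the basic fact: a point of `A` with germ zero is the zero section
  have hzero : ∀ (Ω : Type u) [Field Ω] [IsSepClosed Ω] (η : Spec (CommRingCat.of Ω) ⟶ X)
      (z : Over.mk η ⟶ A),
      HasGerm (res z σA) (⟨𝟙 _, Category.id_comp _⟩ : FibrePts (Over.mk η).hom η) 0 →
      (show Spec (CommRingCat.of Ω) ⟶ A.left from z.left) default ∈ Set.range z₀.left := by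
    intro Ω _ _ η z hz
    let ξ : FibrePts (Over.mk η).hom η := ⟨𝟙 _, Category.id_comp _⟩
    let a : Over.mk η ⟶ Over.mk (𝟙 X) := Over.homMk η (Category.comp_id _)
    have h0 : res (a ≫ z₀) σA = 0 := by rw [res_comp, hz₀, res_zero]
    have := hres_inj z (a ≫ z₀) ((ext_point F ξ hz (HasGerm.zero ξ)).trans h0.symm)
    rw [this]
    exact ⟨_, (Scheme.Hom.comp_apply _ _ _).symm⟩
  have hpt : ∀ (Ω : Type u) [Field Ω] [IsSepClosed Ω] (η : Spec (CommRingCat.of Ω) ⟶ X)
      (t : FibrePts (O.ι ≫ A.hom) η) (g : (EtCoh.stalk η).obj F),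
      HasGerm (res j σA) (t : FibrePts (Over.mk (O.ι ≫ A.hom)).hom η) g →
        HasGerm (res (Over.homMk (t.1 ≫ O.ι) ((Category.assoc _ _ _).trans t.2) : Over.mk η ⟶ A) σA)
          (⟨𝟙 _, Category.id_comp _⟩ : FibrePts (Over.mk η).hom η) g := by
    intro Ω _ _ η t g hg
    let m : Over.mk η ⟶ Over.mk (O.ι ≫ A.hom) := Over.homMk t.1 t.2
    rw [show (Over.homMk (t.1 ≫ O.ι) ((Category.assoc _ _ _).trans t.2) : Over.mk η ⟶ A) = m ≫ j from
      Over.OverMorphism.ext rfl, res_comp]
    exact hasGerm_res m _ t (Category.id_comp _) hg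
  have hne : ∀ (Ω : Type u) [Field Ω] [IsSepClosed Ω] (η : Spec (CommRingCat.of Ω) ⟶ X)
      (t : FibrePts (O.ι ≫ A.hom) η) (g : (EtCoh.stalk η).obj F),
      HasGerm (res j σA) (t : FibrePts (Over.mk (O.ι ≫ A.hom)).hom η) g → g ≠ 0 := by
    rintro Ω _ _ η t _ hg rfl
    have := hzero Ω η _ (hpt Ω η t 0 hg)
    exact (t.1 default).2 this
  refine ⟨(O : Scheme.{u}), O.ι ≫ A.hom, inferInstance, inferInstance, res j σA, hne, ?_⟩
  intro Ω _ _ η
  choose g hg using fun t : FibrePts (Over.mk (O.ι ≫ A.hom)).hom η => exists_hasGerm (res j σA) t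
  refine Nat.card_eq_of_bijective
    (fun t : FibrePts (O.ι ≫ A.hom) η => (⟨g t, hne Ω η t _ (hg t)⟩ :
      {e : (EtCoh.stalk η).obj F // e ≠ 0})) ⟨fun t t' ht => ?_, fun e' => ?_⟩
  · have h1 := hpt Ω η t _ (hg t)
    have h2 := hpt Ω η t' _ (hg t')
    rw [show g t = g t' from congrArg Subtype.val ht] at h1
    have := congrArg (fun k : Over.mk η ⟶ A => k.left) (hres_inj _ _ (ext_point F _ h1 h2))
    exact Subtype.ext ((cancel_mono O.ι).1 this)
  · obtain ⟨σ, hσe⟩ := exists_point_section F η e'.1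
    let z : Over.mk η ⟶ A := e.homEquiv.symm (equivShrink _ σ)
    have hz : res z σA = σ := by rw [← hσ, Equiv.apply_symm_apply, Equiv.symm_apply_apply]
    have hmem : (show Spec (CommRingCat.of Ω) ⟶ A.left from z.left) default ∉ Set.range z₀.left := by
      rintro ⟨x, hx⟩
      obtain ⟨l, hl, -⟩ := Scheme.exists_fac_of_etale_of_isSepClosed z₀.left z.left x hx
      have hlη : l = η := by
        have := congrArg (· ≫ A.hom) hl
        simp only [Category.assoc, hw₀, Category.comp_id] at this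
        exact this.trans (Over.w z)
      let a : Over.mk η ⟶ Over.mk (𝟙 X) := Over.homMk η (Category.comp_id _)
      have : z = a ≫ z₀ := Over.OverMorphism.ext (hl.symm.trans (congrArg (· ≫ z₀.left) hlη))
      rw [this, res_comp, hz₀, res_zero] at hz
      rw [← hz] at hσe
      exact e'.2 (hσe.unique (HasGerm.zero _))
    have hr : Set.range z.left ⊆ Set.range O.ι := by
      rintro _ ⟨d, rfl⟩
      rw [show d = (default : Spec (CommRingCat.of Ω)) from
        @Subsingleton.elim _ (inferInstanceAs (Subsingleton ↥(Spec (CommRingCat.of Ω)))) _ _,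
        Scheme.Opens.range_ι]
      exact hmem
    have hl : IsOpenImmersion.lift O.ι z.left hr ≫ O.ι = z.left := IsOpenImmersion.lift_fac _ _ _
    let t : FibrePts (O.ι ≫ A.hom) η :=
      ⟨IsOpenImmersion.lift O.ι z.left hr, by rw [← Category.assoc, hl]; exact Over.w z⟩
    refine ⟨t, Subtype.ext ?_⟩
    have h1 := hpt Ω η t _ (hg t)
    rw [show (Over.homMk (t.1 ≫ O.ι) ((Category.assoc _ _ _).trans t.2) : Over.mk η ⟶ A) = z from
      Over.OverMorphism.ext hl, hz] at h1
    exact h1.unique hσe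

end Groth.Agent.EtFLC
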