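import Groth.Agent.Et18.Fppf.APull
import Groth.Agent.Et18.PropAFaithful

/-!
# Sections over an étale scheme are the global sections of the inverse image
-/

set_option autoImplicit false
set_option backward.isDefEq.respectTransparency.types false
set_option backward.isDefEq.respectTransparency false
set_option linter.all false

universe u

open CategoryTheory CategoryTheory.Limits AlgebraicGeometry Opposite
open Groth.Agent.Et18 Groth.Agent.Et18.H0Lift Groth.Agent.Et18.Fppf

namespace Groth.Agent.EtFLC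

variable {X : Scheme.{u}} (F : EtCoh.Ab X)

/-- The comparison map `F(U) → Γ(U, F|U)`. -/
noncomputable def unitFun (U : X.Etale) (t : EtCoh.sect F U) : GSect F ((EtFppf.a X).obj U) :=
  pullAt F U (𝟙 _) (Category.id_comp _) t

theorem hasGerm_unitFun (U : X.Etale) (t : EtCoh.sect F U) {R : Over X} (m : R ⟶ (EtFppf.a X).obj U)
    {Ω : Type u} [Field Ω] [IsSepClosed Ω] {η : Spec (CommRingCat.of Ω) ⟶ X} (ξ : FibrePts R.hom η) :
    HasGerm (res m (unitFun F U t)) ξ (gm F η U (fibOf ξ U m.left (Over.w m)) t) := by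
  let ξU : FibrePts ((EtFppf.a X).obj U).hom η :=
    ⟨ξ.1 ≫ m.left, (Category.assoc _ _ _).trans ((congrArg (ξ.1 ≫ ·) (Over.w m)).trans ξ.2)⟩
  have := hasGerm_res m ξ ξU rfl (hasGerm_pullAt U (𝟙 _) (Category.id_comp _) t ξU)
  refine Eq.mpr (congrArg (HasGerm _ _) (congrArg (fun w => gm F η U w t) (Over.OverMorphism.ext ?_))) this
  change ξ.1 ≫ m.left = (ξ.1 ≫ m.left) ≫ 𝟙 _
  simp

theorem unitFun_map {U V : X.Etale} (g : V ⟶ U) (t : EtCoh.sect F U) :
    unitFun F V (F.obj.map g.op t) = res ((EtFppf.a X).map g) (unitFun F U t) := by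
  refine ext_germs fun Ω _ _ η ξ e he => ?_
  obtain rfl := he.unique (hasGerm_pullAt V (𝟙 _) (Category.id_comp _) _ ξ)
  refine Eq.mpr (congrArg (HasGerm _ _) ?_) (hasGerm_unitFun F U t ((EtFppf.a X).map g) ξ)
  refine (gm_map F η g (fibOf ξ V (𝟙 _) (Category.id_comp _)) t).trans ?_
  refine congrArg (fun w => gm F η U w t) (Over.OverMorphism.ext ?_)
  change (ξ.1 ≫ 𝟙 _) ≫ g.left = ξ.1 ≫ g.left
  simp

theorem injective_unitFun (U : X.Etale) : Function.Injective (unitFun F U) := by
  intro s t h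
  refine sub_eq_zero.1 (eq_zero_of_sectSupp_eq_empty F U (s - t)
    (Set.eq_empty_iff_forall_notMem.2 fun y hy => ?_))
  let ξ : FibrePts ((EtFppf.a X).obj U).hom (algPoint U.left y ≫ U.hom) := ⟨algPoint U.left y, rfl⟩
  let v := fibOf ξ U (𝟙 _) (Category.id_comp _)
  have hv : fiberPt v = y := by
    change (algPoint U.left y ≫ 𝟙 _) default = y
    rw [Category.comp_id]
    exact algPoint_default U.left y
  have h1 := hasGerm_pullAt U (𝟙 _) (Category.id_comp _) s ξ
  have h2 := hasGerm_pullAt U (𝟙 _) (Category.id_comp _) t ξ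
  rw [show pullAt F U (𝟙 _) (Category.id_comp _) s = pullAt F U (𝟙 _) (Category.id_comp _) t from h] at h1
  have h0 : gm F _ U v (s - t) = 0 := (map_sub _ _ _).trans (sub_eq_zero.2 (h1.unique h2))
  exact (gm_eq_zero_iff F _ U v _).1 h0 (by rw [hv]; exact hy)

theorem exists_glue (U : X.Etale) {κ : Type (u + 1)} (W : κ → X.Etale) (a : ∀ k, W k ⟶ U)
    (hcov : ∀ x : U.left, ∃ k, x ∈ Set.range (a k).left) (t : ∀ k, EtCoh.sect F (W k))
    (h : ∀ (k l : κ) (R : X.Etale) (gk : R ⟶ W k) (gl : R ⟶ W l), gk ≫ a k = gl ≫ a l →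
      F.obj.map gk.op (t k) = F.obj.map gl.op (t l)) :
    ∃ s : EtCoh.sect F U, ∀ k, F.obj.map (a k).op s = t k := by
  have hsheaf : Presieve.IsSheaf X.smallEtaleTopology (F.obj ⋙ forget AddCommGrpCat.{u + 1}) :=
    (CategoryTheory.isSheaf_iff_isSheaf_of_type _ _).1
      ((sheafCompose X.smallEtaleTopology (forget AddCommGrpCat.{u + 1})).obj F).property
  have hmem : Sieve.ofArrows W a ∈ X.smallEtaleTopology U :=
    mem_smallEtaleTopology_of_points _ fun x => by
      obtain ⟨k, w, hw⟩ := hcov x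
      exact ⟨W k, a k, w, Sieve.ofArrows_mk W a k, etale_map_left (a k), hw⟩
  have hfor : (Presieve.ofArrows W a).IsSheafFor (F.obj ⋙ forget _) := by
    rw [Presieve.isSheafFor_iff_generate]
    exact hsheaf _ hmem
  obtain ⟨s, hs, -⟩ := (Presieve.isSheafFor_arrows_iff _ _).mp hfor t h
  exact ⟨s, hs⟩

theorem surjective_unitFun (U : X.Etale) : Function.Surjective (unitFun F U) := by
  intro σ
  have : Etale U.hom := U.prop
  choose R q V m t he hy hr using exists_rep (X := X) (F := F) (T := (EtFppf.a X).obj U) σ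
  let W : ULift.{u + 1} U.left → X.Etale := fun y =>
    have : Etale (q y.down).left := he y.down
    have : Etale (R y.down).hom := Over.w (q y.down) ▸ (inferInstanceAs (Etale ((q y.down).left ≫ U.hom)))
    Scheme.Etale.mk (R y.down).hom
  let a : ∀ k, W k ⟶ U := fun k => MorphismProperty.Over.homMk (q k.down).left (Over.w (q k.down))
  let b : ∀ k, W k ⟶ V k.down := fun k => MorphismProperty.Over.homMk (m k.down).left (Over.w (m k.down))
  have hb : ∀ k, unitFun F (W k) (F.obj.map (b k).op (t k.down)) = res ((EtFppf.a X).map (a k)) σ :=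
    fun k => by
      rw [unitFun_map]
      exact (hr k.down).symm
  obtain ⟨s, hs⟩ := exists_glue F U W a (fun x => ⟨⟨x⟩, hy x⟩)
    (fun k => F.obj.map (b k).op (t k.down)) fun k l P gk gl hkl => by
      refine injective_unitFun F P ?_
      refine (unitFun_map F gk _).trans ((congrArg (res _) (hb k)).trans ?_)
      refine Eq.trans ?_ ((unitFun_map F gl _).trans (congrArg (res _) (hb l))).symm
      rw [← res_comp, ← res_comp, ← Functor.map_comp, ← Functor.map_comp, hkl]
  refine ⟨s, ext_germs fun Ω _ _ η ξ e he' => ?_⟩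
  obtain ⟨e', he''⟩ := exists_hasGerm σ ξ
  obtain ⟨k, w, hw⟩ : ∃ k, ξ.1 default ∈ Set.range (a k).left := ⟨⟨ξ.1 default⟩, hy _⟩
  have := etale_map_left (a k)
  obtain ⟨l, hl, -⟩ := Scheme.exists_fac_of_etale_of_isSepClosed (a k).left ξ.1 w hw
  let ξk : FibrePts ((EtFppf.a X).obj (W k)).hom η := ⟨l, by
    have h1 := ξ.2
    rw [← hl, Category.assoc] at h1
    exact (congrArg (l ≫ ·) (Over.w ((EtFppf.a X).map (a k)))).symm.trans h1⟩
  have g1 := hasGerm_res ((EtFppf.a X).map (a k)) ξk ξ hl he'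
  rw [← unitFun_map, hs k, hb k] at g1
  rw [g1.unique (hasGerm_res ((EtFppf.a X).map (a k)) ξk ξ hl he'')]
  exact he''

theorem bijective_unitFun (U : X.Etale) : Function.Bijective (unitFun F U) :=
  ⟨injective_unitFun F U, surjective_unitFun F U⟩

end Groth.Agent.EtFLC
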